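import Groth.Agent.Lib.ASH28.Series

/-!
# The first cohomology of a cyclic group of order `p` acting on `k[[t]]`
-/

noncomputable section

namespace GrothLib.ASH28

open PowerSeries Finset groupCohomology

universe u

section Expansion

variable {k : Type*} [Field k] (e : ℕ → k⟦X⟧)

/-- The series `∑ c l • e l` of a triangular family. -/
def Psi : (ℕ → k) →ₗ[k] k⟦X⟧ where
  toFun c := PowerSeries.mk fun N => ∑ l ∈ range (N + 1), c l * coeff N (e l)
  map_add' c d := by ext N; simp [add_mul, sum_add_distrib]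
  map_smul' r c := by ext N; simp [mul_sum, mul_assoc]

theorem coeff_Psi_eq (hlow : ∀ l, ∀ M, M < l → coeff M (e l) = 0) (c : ℕ → k) {M L : ℕ} (h : M < L) :
    coeff M (∑ l ∈ range L, c l • e l) = coeff M (Psi e c) := by
  simp only [Psi, LinearMap.coe_mk, AddHom.coe_mk, coeff_mk, map_sum]
  simp only [map_smul, smul_eq_mul]
  refine (sum_subset (range_mono (by omega : M + 1 ≤ L)) fun l _ hl => ?_).symm
  rw [mem_range] at hl
  rw [hlow l M (by omega), mul_zero]

theorem exists_Psi (hlow : ∀ l, ∀ M, M < l → coeff M (e l) = 0) (hdiag : ∀ l, coeff l (e l) ≠ 0) (f : k⟦X⟧) :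
    ∃ c, Psi e c = f := by
  have h : ∀ L, ∃ c : ℕ → k, ∀ M < L, coeff M (Psi e c) = coeff M f := fun L => by
    induction L with
    | zero => exact ⟨0, by simp⟩
    | succ L ih =>
      obtain ⟨c, hc⟩ := ih
      refine ⟨c + Pi.single L ((coeff L f - coeff L (Psi e c)) / coeff L (e L)), fun M hM => ?_⟩
      rw [map_add, map_add, ← coeff_Psi_eq e hlow (Pi.single L _) (Nat.lt_succ_of_le (Nat.lt_succ_iff.1 hM)), map_sum]
      simp only [map_smul, smul_eq_mul]
      rw [sum_range_succ, sum_eq_zero fun l hl => by rw [Pi.single_eq_of_ne (mem_range.1 hl).ne, zero_mul],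
        zero_add, Pi.single_eq_same]
      rcases Nat.lt_succ_iff_lt_or_eq.1 hM with h1 | rfl
      · rw [hc M h1, hlow L M h1, mul_zero, add_zero]
      · rw [div_mul_cancel₀ _ (hdiag M)]; ring
  choose c hc using h
  have hcc : ∀ L L', ∀ l, l < L → l < L' → c L l = c L' l := by
    intro L L' l
    induction l using Nat.strong_induction_on with
    | _ l ih =>
      intro h1 h2
      have h3 := (hc L l h1).trans (hc L' l h2).symm
      rw [← coeff_Psi_eq e hlow (c L) (Nat.lt_succ_self l), ← coeff_Psi_eq e hlow (c L') (Nat.lt_succ_self l),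
        map_sum, map_sum, sum_range_succ, sum_range_succ] at h3
      simp only [map_smul, smul_eq_mul] at h3
      rw [sum_congr rfl fun j hj => by rw [ih j (mem_range.1 hj) ((mem_range.1 hj).trans h1) ((mem_range.1 hj).trans h2)]] at h3
      exact mul_right_cancel₀ (hdiag l) (add_left_cancel h3)
  refine ⟨fun l => c (l + 1) l, PowerSeries.ext fun N => ?_⟩
  rw [← hc (N + 1) N (Nat.lt_succ_self N), ← coeff_Psi_eq e hlow _ (Nat.lt_succ_self N),
    ← coeff_Psi_eq e hlow _ (Nat.lt_succ_self N), map_sum, map_sum]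
  refine sum_congr rfl fun l hl => ?_
  rw [hcc (l + 1) (N + 1) l (Nat.lt_succ_self l) (mem_range.1 hl)]

theorem Psi_injective (hlow : ∀ l, ∀ M, M < l → coeff M (e l) = 0) (hdiag : ∀ l, coeff l (e l) ≠ 0) :
    Function.Injective (Psi e) := by
  rw [← LinearMap.ker_eq_bot, LinearMap.ker_eq_bot']
  intro c hc
  funext l
  induction l using Nat.strong_induction_on with
  | _ l ih =>
    have h := congrArg (coeff l) hc
    rw [← coeff_Psi_eq e hlow c (Nat.lt_succ_self l), map_sum, sum_range_succ,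
      sum_eq_zero fun j hj => by rw [map_smul, ih j (mem_range.1 hj)]; simp, zero_add, map_smul, map_zero] at h
    exact (mul_eq_zero.1 h).resolve_right (hdiag l)

/-- A continuous operator is determined on `Psi` by the family. -/
theorem map_Psi (hlow : ∀ l, ∀ M, M < l → coeff M (e l) = 0) (D : k⟦X⟧ →ₗ[k] k⟦X⟧)
    (hD : ∀ N h, X ^ N ∣ h → X ^ N ∣ D h) (c : ℕ → k) (M : ℕ) :
    coeff M (D (Psi e c)) = ∑ l ∈ range (M + 1), c l * coeff M (D (e l)) := by
  have h : X ^ (M + 1) ∣ Psi e c - ∑ l ∈ range (M + 1), c l • e l := by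
    rw [X_pow_dvd_iff]
    intro j hj
    rw [map_sub, coeff_Psi_eq e hlow c hj, sub_self]
  have h1 := X_pow_dvd_iff.1 (hD _ _ h) M (Nat.lt_succ_self M)
  rw [map_sub, map_sub, sub_eq_zero] at h1
  rw [h1, map_sum, map_sum]
  simp [smul_eq_mul]

end Expansion

/-- The allowed positions below `n`. -/
def B (p n : ℕ) (a : ℤ) : Finset ℕ := {L ∈ range n | ¬ (p : ℤ) ∣ (L : ℤ) + a - n}

section Main

variable {k : Type u} [Field k] {p n : ℕ} {U : k⟦X⟧ˣ}

/-- The operator `h ↦ u ^ a σ h - h`. -/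
def Dop (U : k⟦X⟧ˣ) (a : ℤ) : k⟦X⟧ →ₗ[k] k⟦X⟧ where
  toFun h := ((U ^ a : k⟦X⟧ˣ) : k⟦X⟧) * sig U h - h
  map_add' x y := by rw [map_add]; ring
  map_smul' r x := by
    rw [PowerSeries.smul_eq_C_mul, map_mul, sig_C, RingHom.id_apply, PowerSeries.smul_eq_C_mul]; ring

theorem Dop_dvd (a : ℤ) (N : ℕ) (h : k⟦X⟧) (hh : X ^ N ∣ h) : X ^ N ∣ Dop U a h :=
  dvd_sub ((sig_dvd U hh).mul_left _) hh

variable [Fact p.Prime] [CharP k p] (hpn : ¬ p ∣ n) (hu1 : constantCoeff (U : k⟦X⟧) = 1)
  (hun : (U : k⟦X⟧) ^ n * (1 + X ^ n) = 1) (a : ℤ)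

include hpn in
theorem natCast_ne : (n : k) ≠ 0 := fun h => hpn ((CharP.cast_eq_zero_iff k p n).1 h)

include hpn hu1 hun

theorem coeff_e {l L : ℕ} (h : L < l + n) :
    coeff L (e p n U a l) = if L = l then ((idx p n a l).factorial : k)⁻¹ else 0 := by
  have h1 := X_pow_dvd_iff.1 (e_dvd_sub p n U hu1 hun (natCast_ne hpn) a l) L h
  rw [map_sub, sub_eq_zero] at h1
  rw [h1, coeff_X_pow_mul', coeff_C]
  by_cases hL : L = l
  · subst hL; simp
  · rw [if_neg hL]
    split_ifs with h2 h3 <;> first | rfl | omega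

theorem coeff_low (l M : ℕ) (h : M < l) : coeff M (e p n U a l) = 0 := by
  rw [coeff_e hpn hu1 hun a (by omega), if_neg h.ne]

theorem factorial_idx_ne (l : ℕ) : ((idx p n a l).factorial : k) ≠ 0 := fun h => by
  rw [CharP.cast_eq_zero_iff k p, (Fact.out : p.Prime).dvd_factorial] at h
  have := (e_spec p n hpn a l).1
  omega

theorem coeff_diag (hn : 0 < n) (l : ℕ) : coeff l (e p n U a l) ≠ 0 := by
  rw [coeff_e hpn hu1 hun a (by omega), if_pos rfl]
  exact inv_ne_zero (factorial_idx_ne hpn hu1 hun a l)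

theorem idx_eq_zero_iff (l : ℕ) : idx p n a l = 0 ↔ (p : ℤ) ∣ (l : ℤ) + a := by
  constructor
  · intro h
    have h2 := (e_spec p n hpn a l).2
    rw [h] at h2
    simpa using h2
  · intro h
    exact idx_unique p n hpn a l 0 (Fact.out : p.Prime).pos (by simpa using h)

theorem idx_eq_pred_iff (l : ℕ) : idx p n a l = p - 1 ↔ (p : ℤ) ∣ (l : ℤ) + a - n := by
  have hp := (Fact.out : p.Prime).pos
  have e1 : (l : ℤ) + a + n * ((p - 1 : ℕ) : ℤ) = ((l : ℤ) + a - n) + (p : ℤ) * n := by
    push_cast [Nat.cast_sub hp]; ring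
  constructor
  · intro h
    have h2 := (e_spec p n hpn a l).2
    rw [h, e1] at h2
    simpa using h2
  · intro h
    exact idx_unique p n hpn a l (p - 1) (by omega) (by rw [e1]; simpa using h)

theorem Dop_pow_e (j l : ℕ) :
    ((Dop U a) ^ j) (e p n U a l) = if j ≤ idx p n a l then e p n U a (l + j * n) else 0 := by
  induction j generalizing l with
  | zero => simp
  | succ j ih =>
    rw [pow_succ, Module.End.mul_apply]
    rw [show Dop U a (e p n U a l) = if idx p n a l = 0 then 0 else e p n U a (l + n) from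
      D_e p n U hu1 hun hpn a l]
    obtain ⟨hi, m, hm⟩ := e_spec p n hpn a l
    by_cases h0 : idx p n a l = 0
    · rw [if_pos h0, map_zero, if_neg (by omega)]
    · rw [if_neg h0, ih]
      have h1 : idx p n a (l + n) = idx p n a l - 1 :=
        idx_unique p n hpn a (l + n) _ (by omega) ⟨m, by
          push_cast [Nat.cast_sub (Nat.one_le_iff_ne_zero.2 h0)] at hm ⊢; linarith⟩
      rw [h1, show l + n + j * n = l + (j + 1) * n by ring]
      split_ifs with h2 h3 <;> first | rfl | omega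

/-- Values of cocycles at the generator. -/
theorem mem_ker_iff (hn : 0 < n) (c : ℕ → k) :
    ((Dop U a) ^ (p - 1)) (Psi (e p n U a) c) = 0 ↔ ∀ l : ℕ, (p : ℤ) ∣ (l : ℤ) + a - n → c l = 0 := by
  have hlow := coeff_low hpn hu1 hun a
  have hcont : ∀ N h, X ^ N ∣ h → X ^ N ∣ ((Dop U a) ^ (p - 1)) h := fun N h hh => by
    induction (p - 1) with
    | zero => simpa using hh
    | succ j ih => rw [pow_succ', Module.End.mul_apply]; exact Dop_dvd a N _ ih
  constructor
  · intro h l
    induction l using Nat.strong_induction_on with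
    | _ l ih =>
      intro hl
      let M := l + (p - 1) * n
      have h' : ∑ j ∈ range (M + 1), c j * coeff M (((Dop U a) ^ (p - 1)) (e p n U a j)) = 0 := by
        rw [← map_Psi _ hlow _ hcont, h, map_zero]
      rw [sum_eq_single l] at h'
      · rw [Dop_pow_e hpn hu1 hun a, if_pos ((idx_eq_pred_iff hpn hu1 hun a l).2 hl).ge] at h'
        exact (mul_eq_zero.1 h').resolve_right (coeff_diag hpn hu1 hun a hn M)
      · intro j _ hne
        rw [Dop_pow_e hpn hu1 hun a]
        split_ifs with hq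
        · rcases Nat.lt_or_gt_of_ne hne with h1 | h1
          · have hi : idx p n a j = p - 1 := by have := (e_spec p n hpn a j).1; omega
            rw [ih j h1 ((idx_eq_pred_iff hpn hu1 hun a j).1 hi), zero_mul]
          · rw [hlow _ _ (by omega), mul_zero]
        · simp
      · intro h1
        exact absurd (mem_range.2 (by omega)) h1
  · intro h
    ext M
    rw [map_Psi _ hlow _ hcont, map_zero]
    refine sum_eq_zero fun j _ => ?_
    rw [Dop_pow_e hpn hu1 hun a]
    split_ifs with hq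
    · have hi : idx p n a j = p - 1 := by have := (e_spec p n hpn a j).1; omega
      rw [h j ((idx_eq_pred_iff hpn hu1 hun a j).1 hi), zero_mul]
    · simp

theorem coeff_Psi_low (c : ℕ → k) {L : ℕ} (hL : L < n) :
    coeff L (Psi (e p n U a) c) = c L * ((idx p n a L).factorial : k)⁻¹ := by
  rw [← coeff_Psi_eq _ (coeff_low hpn hu1 hun a) c (Nat.lt_succ_self L), map_sum]
  rw [sum_eq_single L]
  · rw [map_smul, coeff_e hpn hu1 hun a (by omega), if_pos rfl, smul_eq_mul]
  · intro j _ hj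
    rw [map_smul, coeff_e hpn hu1 hun a (by omega), if_neg hj.symm, smul_zero]
  · intro h; exact absurd (self_mem_range_succ L) h

theorem exists_ker_coeff (hn : 0 < n) (v : ℕ → k) :
    ∃ f, ((Dop U a) ^ (p - 1)) f = 0 ∧ (∀ L ∈ B p n a, coeff L f = v L) ∧
      ∀ L < n, (p : ℤ) ∣ (L : ℤ) + a - n → coeff L f = 0 := by
  let c : ℕ → k := fun L => if L ∈ B p n a then v L * ((idx p n a L).factorial : k) else 0
  refine ⟨Psi (e p n U a) c, (mem_ker_iff hpn hu1 hun a hn c).2 fun l hl => ?_, fun L hL => ?_, fun L hL hd => ?_⟩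
  · simp only [c, B, mem_filter]; rw [if_neg]; exact fun h => h.2 hl
  · have hLn : L < n := mem_range.1 (mem_filter.1 hL).1
    rw [coeff_Psi_low hpn hu1 hun a c hLn]
    simp only [c, if_pos hL]
    rw [mul_assoc, mul_inv_cancel₀ (factorial_idx_ne hpn hu1 hun a L), mul_one]
  · rw [coeff_Psi_low hpn hu1 hun a c hL]
    simp only [c, B, mem_filter]
    rw [if_neg fun h => h.2 hd, zero_mul]

theorem coeff_ker (hn : 0 < n) {f : k⟦X⟧} (hf : ((Dop U a) ^ (p - 1)) f = 0) {L : ℕ} (hL : L < n)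
    (hd : (p : ℤ) ∣ (L : ℤ) + a - n) : coeff L f = 0 := by
  obtain ⟨c, rfl⟩ := exists_Psi _ (coeff_low hpn hu1 hun a) (coeff_diag hpn hu1 hun a hn) f
  rw [coeff_Psi_low hpn hu1 hun a c hL, (mem_ker_iff hpn hu1 hun a hn c).1 hf L hd, zero_mul]

theorem mem_range_iff (hn : 0 < n) {f : k⟦X⟧} (hf : ((Dop U a) ^ (p - 1)) f = 0) :
    f ∈ LinearMap.range (Dop U a) ↔ ∀ L ∈ B p n a, coeff L f = 0 := by
  have hlow := coeff_low hpn hu1 hun a
  obtain ⟨c, rfl⟩ := exists_Psi _ hlow (coeff_diag hpn hu1 hun a hn) f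
  constructor
  · rintro ⟨g, hg⟩ L hL
    have hLn : L < n := mem_range.1 (mem_filter.1 hL).1
    obtain ⟨d, rfl⟩ := exists_Psi _ hlow (coeff_diag hpn hu1 hun a hn) g
    rw [← hg, map_Psi _ hlow _ (Dop_dvd a)]
    refine sum_eq_zero fun j _ => ?_
    have := Dop_pow_e hpn hu1 hun a 1 j
    rw [pow_one] at this
    rw [this]
    split_ifs
    · rw [hlow _ _ (by omega), mul_zero]
    · simp
  · intro h
    have hc := (mem_ker_iff hpn hu1 hun a hn c).1 hf
    have hsmall : ∀ l < n, c l = 0 := fun l hl => by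
      by_cases hd : (p : ℤ) ∣ (l : ℤ) + a - n
      · exact hc l hd
      · have h1 := h l (mem_filter.2 ⟨mem_range.2 hl, hd⟩)
        rw [coeff_Psi_low hpn hu1 hun a c hl, mul_eq_zero] at h1
        exact h1.resolve_right (inv_ne_zero (factorial_idx_ne hpn hu1 hun a l))
    refine ⟨Psi (e p n U a) fun l => c (l + n), PowerSeries.ext fun M => ?_⟩
    rw [map_Psi _ hlow _ (Dop_dvd a)]
    have hD : ∀ j, Dop U a (e p n U a j) = if 1 ≤ idx p n a j then e p n U a (j + 1 * n) else 0 := fun j => by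
      have := Dop_pow_e hpn hu1 hun a 1 j
      rwa [pow_one] at this
    have hterm : ∀ j, c (j + n) * coeff M (Dop U a (e p n U a j)) = c (j + n) * coeff M (e p n U a (j + n)) := fun j => by
      rw [hD j, one_mul]
      split_ifs with hq
      · rfl
      · have h0 : idx p n a j = 0 := by omega
        have := (idx_eq_zero_iff hpn hu1 hun a j).1 h0
        rw [hc (j + n) (by push_cast; rwa [show (j : ℤ) + n + a - n = j + a by ring])]
        ring
    rw [sum_congr rfl fun j _ => hterm j]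
    simp only [Psi, LinearMap.coe_mk, AddHom.coe_mk, coeff_mk]
    rcases Nat.lt_or_ge M n with hM | hM
    · rw [sum_eq_zero fun j hj => by rw [hlow _ _ (by omega), mul_zero],
        sum_eq_zero fun j hj => by rw [hsmall j (by have := mem_range.1 hj; omega), zero_mul]]
    · rw [show M + 1 = n + (M + 1 - n) by omega, sum_range_add (f := fun l => c l * _),
        sum_eq_zero (f := fun l => c l * _) fun j hj => by rw [hsmall j (mem_range.1 hj), zero_mul], zero_add]
      rw [show n + (M + 1 - n) = (M + 1 - n) + n by omega, sum_range_add,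
        sum_eq_zero (s := range n) fun j _ => by rw [hlow _ _ (by omega), mul_zero], add_zero]
      exact sum_congr rfl fun j _ => by rw [add_comm j n]

omit hpn hu1 hun in
theorem geom_sum_eq_pow (f : Module.End k k⟦X⟧) : ∑ r ∈ range p, f ^ r = (f - 1) ^ (p - 1) := by
  have h : ∑ r ∈ range p, (Polynomial.X : Polynomial k) ^ r = (Polynomial.X - 1) ^ (p - 1) := by
    have hne : (Polynomial.X - 1 : Polynomial k) ≠ 0 := Polynomial.X_sub_C_ne_zero 1
    refine mul_right_cancel₀ hne ?_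
    rw [geom_sum_mul, ← pow_succ, Nat.sub_add_cancel (Fact.out : p.Prime).one_le, sub_pow_char, one_pow]
  have h2 := congrArg (Polynomial.aeval f) h
  simpa using h2

variable {G : Type u} [Group G] [Finite G] (g : G) (hG : Nat.card G = p) (hg : ∀ x : G, x ∈ Subgroup.zpowers g)
  (ρ : Representation k G k⟦X⟧) (hρ : ∀ h, ρ g h = ((U ^ a : k⟦X⟧ˣ) : k⟦X⟧) * sig U h)

include hρ in
omit hpn hu1 hun in
theorem rho_sum (m : k⟦X⟧) : ∑ r ∈ range p, ρ (g ^ r) m = ((Dop U a) ^ (p - 1)) m := by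
  have h1 : ρ g - 1 = Dop U a := LinearMap.ext fun h => by
    show ρ g h - h = _; rw [hρ]; rfl
  have h2 : ∑ r ∈ range p, (ρ g) ^ r = (Dop U a) ^ (p - 1) := by
    rw [← h1]; exact geom_sum_eq_pow (ρ g)
  rw [← h2, LinearMap.sum_apply]
  simp only [map_pow]

omit hpn hu1 hun [CharP k p] in
theorem cocycle_pow (f : cocycles₁ (Rep.of ρ)) (s : ℕ) :
    f (g ^ s) = ∑ r ∈ range s, ρ (g ^ r) (f g) := by
  induction s with
  | zero => rw [pow_zero, cocycles₁_map_one, sum_range_zero]
  | succ s ih =>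
    rw [pow_succ, (mem_cocycles₁_iff f).1 f.2 (g ^ s) g, ih, sum_range_succ, add_comm]

include hG hg in
omit hpn hu1 hun [CharP k p] in
theorem exists_pow_eq (x : G) : ∃ s, g ^ s = x := by
  obtain ⟨s, hs⟩ := (Submonoid.mem_powers_iff x g).1 ((mem_powers_iff_mem_zpowers).2 (hg x))
  exact ⟨s, hs⟩

include hG hg hρ in
omit hpn hu1 hun in
theorem exists_cocycle {m : k⟦X⟧} (hm : ((Dop U a) ^ (p - 1)) m = 0) :
    ∃ f : cocycles₁ (Rep.of ρ), f g = m := by
  have hgp : g ^ p = 1 := by rw [← hG]; exact pow_card_eq_one'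
  let ψ : ℕ → k⟦X⟧ := fun s => ∑ r ∈ range s, ρ (g ^ r) m
  have hadd : ∀ s t, ψ (s + t) = ρ (g ^ s) (ψ t) + ψ s := fun s t => by
    show ∑ r ∈ range (s + t), _ = _
    rw [sum_range_add, map_sum, add_comm]
    congr 1
    refine sum_congr rfl fun r _ => ?_
    rw [pow_add, map_mul]; rfl
  have hper : ∀ s j, ψ (s + p * j) = ψ s := fun s j => by
    induction j with
    | zero => simp
    | succ j ih =>
      rw [show s + p * (j + 1) = (s + p * j) + p by ring, hadd, ih,
        show ψ p = 0 from (rho_sum a g ρ hρ m).trans hm, map_zero, zero_add]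
  have hwell : ∀ s t, g ^ s = g ^ t → ψ s = ψ t := fun s t h => by
    have hord : orderOf g = p := by
      rw [← hG, orderOf_eq_card_of_forall_mem_zpowers hg]
    rw [pow_eq_pow_iff_modEq, hord] at h
    rw [← Nat.mod_add_div s p, ← Nat.mod_add_div t p, hper, hper, h]
  choose σ hσ using exists_pow_eq g hG hg
  refine ⟨⟨fun x => ψ (σ x), (mem_cocycles₁_iff _).2 fun x y => ?_⟩, ?_⟩
  · show ψ (σ (x * y)) = ρ x (ψ (σ y)) + ψ (σ x)
    rw [hwell (σ (x * y)) (σ x + σ y) (by rw [pow_add, hσ, hσ, hσ]), hadd, hσ]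
  · show ψ (σ g) = m
    rw [hwell (σ g) 1 (by rw [hσ, pow_one])]
    simp [ψ]

include hG hρ in
omit hpn hu1 hun in
theorem cocycle_ker (f : cocycles₁ (Rep.of ρ)) : ((Dop U a) ^ (p - 1)) (f g) = 0 := by
  rw [← rho_sum a g ρ hρ, ← cocycle_pow g ρ f, ← hG, pow_card_eq_one', cocycles₁_map_one]

/-- The coordinates of a cocycle. -/
def coord : cocycles₁ (Rep.of ρ) →ₗ[k] (B p n a → k) where
  toFun f L := coeff L.1 (f g)
  map_add' x y := funext fun L => map_add (coeff (R := k) L.1) _ _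
  map_smul' r x := funext fun L => map_smul (coeff (R := k) L.1) _ _

include hG hg hρ

theorem coord_eq_zero_iff (hn : 0 < n) (f : cocycles₁ (Rep.of ρ)) :
    coord (n := n) (p := p) a g ρ f = 0 ↔ ⇑f ∈ coboundaries₁ (Rep.of ρ) := by
  constructor
  · intro h
    obtain ⟨h', hh⟩ := (mem_range_iff hpn hu1 hun a hn (cocycle_ker a g hG ρ hρ f)).2 fun L hL =>
      congrFun h ⟨L, hL⟩
    refine ⟨h', funext fun x => ?_⟩
    obtain ⟨s, rfl⟩ := exists_pow_eq g hG hg x
    show ρ (g ^ s) h' - h' = f (g ^ s)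
    rw [cocycle_pow g ρ f s, ← hh]
    have hD : Dop U a h' = ρ g h' - h' := by rw [hρ]; rfl
    rw [hD]
    refine Eq.symm ?_
    calc ∑ r ∈ range s, ρ (g ^ r) (ρ g h' - h')
        = ∑ r ∈ range s, (ρ (g ^ (r + 1)) h' - ρ (g ^ r) h') := sum_congr rfl fun r _ => by
          rw [map_sub, pow_succ, map_mul]; rfl
      _ = _ := by rw [sum_range_sub (fun r => ρ (g ^ r) h'), pow_zero, map_one]; rfl
  · rintro ⟨h', hh⟩
    funext L
    refine (mem_range_iff hpn hu1 hun a hn (cocycle_ker a g hG ρ hρ f)).1 ⟨h', ?_⟩ L.1 L.2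
    have := congrFun hh g
    refine Eq.trans ?_ this
    show _ = ρ g h' - h'
    rw [hρ]; rfl

theorem coord_surjective (hn : 0 < n) :
    Function.Surjective (coord (n := n) (p := p) a g ρ) := fun v => by
  obtain ⟨m, hm, hv, -⟩ := exists_ker_coeff hpn hu1 hun a hn fun L => if h : L ∈ B p n a then v ⟨L, h⟩ else 0
  obtain ⟨f, rfl⟩ := exists_cocycle a g hG hg ρ hρ hm
  exact ⟨f, funext fun L => (hv L.1 L.2).trans (dif_pos L.2)⟩

/-- The first cohomology in coordinates. -/
theorem exists_H1_equiv (hn : 0 < n) :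
    ∃ Φ : H1 (Rep.of ρ) ≃ₗ[k] (B p n a → k), ∀ f, Φ (H1π (Rep.of ρ) f) = coord a g ρ f := by
  let π := (H1π (Rep.of ρ)).hom
  have hπ : Function.Surjective π := fun x => H1_induction_on x fun f => ⟨f, rfl⟩
  have hker : LinearMap.ker π = LinearMap.ker (coord (n := n) (p := p) a g ρ) := by
    ext f
    rw [LinearMap.mem_ker, LinearMap.mem_ker, coord_eq_zero_iff hpn hu1 hun a g hG hg ρ hρ hn f]
    exact H1π_eq_zero_iff f
  refine ⟨(LinearMap.quotKerEquivOfSurjective π hπ).symm ≪≫ₗ Submodule.quotEquivOfEq _ _ hker ≪≫ₗ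
    LinearMap.quotKerEquivOfSurjective _ (coord_surjective hpn hu1 hun a g hG hg ρ hρ hn), fun f => ?_⟩
  have : (LinearMap.quotKerEquivOfSurjective π hπ).symm (H1π (Rep.of ρ) f) = Submodule.Quotient.mk f := by
    rw [LinearEquiv.symm_apply_eq]; rfl
  simp only [LinearEquiv.trans_apply, this]
  rfl

end Main

end GrothLib.ASH28
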