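import Groth.Agent.Lib.ASH28.Coh

/-!
# Dimensions of the cohomology and of the image of the derivative
-/

noncomputable section

namespace GrothLib.ASH28

open PowerSeries Finset groupCohomology

universe u

theorem ediv_succ {p : ℕ} (hp : 0 < p) (x : ℤ) :
    (x + 1) / (p : ℤ) = x / p + if (p : ℤ) ∣ x + 1 then 1 else 0 := by
  have hp' : (0 : ℤ) < p := by exact_mod_cast hp
  split_ifs with h
  · obtain ⟨q, hq⟩ := h
    have h1 : x / (p : ℤ) = q - 1 := by
      rw [show x = (p - 1 : ℤ) + (q - 1) * p by linarith, Int.add_mul_ediv_right _ _ hp'.ne',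
        Int.ediv_eq_zero_of_lt (by linarith) (by linarith)]
      ring
    rw [hq, Int.mul_ediv_cancel_left _ hp'.ne', h1]; ring
  · have h0 := Int.emod_nonneg x hp'.ne'
    have h1 := Int.emod_lt_of_pos x hp'
    have h2 := Int.mul_ediv_add_emod x p
    have h3 : x % (p : ℤ) + 1 ≠ p := fun h3 => h ⟨x / p + 1, by linarith⟩
    rw [show x + 1 = (x % (p : ℤ) + 1) + (x / p) * p by linarith, Int.add_mul_ediv_right _ _ hp'.ne',
      Int.ediv_eq_zero_of_lt (by linarith) (by omega)]
    have h4 : (x % (p : ℤ) + 1 + x / p * p - 1) = x := by linarith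
    ring

theorem card_dvd {p : ℕ} (hp : 0 < p) (c : ℤ) (n : ℕ) :
    ((({L ∈ range n | (p : ℤ) ∣ ((L : ℕ) : ℤ) + c} : Finset ℕ)).card : ℤ) = (c + n - 1) / p - (c - 1) / p := by
  induction n with
  | zero => simp
  | succ n ih =>
    have h := ediv_succ hp (c + n - 1)
    rw [show c + (n : ℤ) - 1 + 1 = c + n by ring] at h
    rw [range_add_one, filter_insert]
    push_cast
    rw [show c + ((n : ℤ) + 1) - 1 = c + n by ring, h]
    rw [show (c : ℤ) + n = n + c by ring] at *
    split_ifs with h1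
    · rw [card_insert_of_notMem (by simp)]; push_cast; linarith
    · linarith

theorem card_B {p : ℕ} (hp : 0 < p) (n : ℕ) (a : ℤ) :
    ((B p n a).card : ℤ) = n - ((a - 1) / p - (a - 1 - n) / p) := by
  have h := card_filter_add_card_filter_not (s := range n) (fun L : ℕ => (p : ℤ) ∣ (L : ℤ) + a - n)
  rw [card_range] at h
  have h2 : (({L ∈ range n | (p : ℤ) ∣ ((L : ℕ) : ℤ) + a - n} : Finset ℕ).card : ℤ) = (a - 1) / p - (a - 1 - n) / p := by
    have h3 := card_dvd hp (a - n) n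
    rw [show a - (n : ℤ) + n - 1 = a - 1 by ring, show a - (n : ℤ) - 1 = a - 1 - n by ring] at h3
    rw [← h3]
    congr 2
    exact filter_congr fun L _ => by rw [show (L : ℤ) + a - n = L + (a - n) by ring]
  have h4 : ((B p n a).card : ℤ) = n - (({L ∈ range n | (p : ℤ) ∣ ((L : ℕ) : ℤ) + a - n} : Finset ℕ).card : ℤ) := by
    rw [B]
    omega
  rw [h4, h2]

section

variable {k : Type u} [Field k] {p n : ℕ} [Fact p.Prime] [CharP k p] (hn : 0 < n) (hpn : ¬ p ∣ n)
  {U : k⟦X⟧ˣ} (hu1 : constantCoeff (U : k⟦X⟧) = 1) (hun : (U : k⟦X⟧) ^ n * (1 + X ^ n) = 1)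
  {G : Type u} [Group G] [Finite G] (g : G) (hG : Nat.card G = p) (hg : ∀ x : G, x ∈ Subgroup.zpowers g)

include hn hpn hu1 hun hG hg

theorem finrank_H1 (a : ℤ) (ρ : Representation k G k⟦X⟧) (hρ : ∀ h, ρ g h = ((U ^ a : k⟦X⟧ˣ) : k⟦X⟧) * sig U h) :
    Module.Finite k (H1 (Rep.of ρ)) ∧
      (Module.finrank k (H1 (Rep.of ρ)) : ℤ) = n - (a - 1) / (p : ℤ) + (a - 1 - n) / (p : ℤ) := by
  obtain ⟨Φ, -⟩ := exists_H1_equiv hpn hu1 hun a g hG hg ρ hρ hn
  refine ⟨Module.Finite.equiv Φ.symm, ?_⟩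
  rw [Φ.finrank_eq, Module.finrank_fintype_fun_eq_card, Fintype.card_coe, card_B (Fact.out : p.Prime).pos]
  ring

theorem finrank_range (ρ₀ ρ₁ : Representation k G k⟦X⟧) (hρ₀ : ∀ h, ρ₀ g h = sig U h)
    (hρ₁ : ∀ h, ρ₁ g h = (U : k⟦X⟧) ^ (n + 1) * sig U h) (φ : Rep.of ρ₀ ⟶ Rep.of ρ₁)
    (hφ : ∀ h : k⟦X⟧, φ.hom h = derivative k h) :
    Module.Finite k (LinearMap.range ((groupCohomology.functor k G 1).map φ).hom) ∧
      (Module.finrank k (LinearMap.range ((groupCohomology.functor k G 1).map φ).hom) : ℤ) =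
        ((n + 1) * (p - 1) : ℤ) / p - 1 - (n - 1 : ℤ) / p := by
  have hp := (Fact.out : p.Prime).pos
  have h0 : ∀ h, ρ₀ g h = ((U ^ (0 : ℤ) : k⟦X⟧ˣ) : k⟦X⟧) * sig U h := fun h => by
    rw [hρ₀, zpow_zero, Units.val_one, one_mul]
  have h1 : ∀ h, ρ₁ g h = ((U ^ ((n + 1 : ℕ) : ℤ) : k⟦X⟧ˣ) : k⟦X⟧) * sig U h := fun h => by
    rw [hρ₁, zpow_natCast, Units.val_pow_eq_pow_val]
  obtain ⟨Φ₁, hΦ₁⟩ := exists_H1_equiv hpn hu1 hun _ g hG hg ρ₁ h1 hn
  let a₁ : ℤ := ((n + 1 : ℕ) : ℤ)
  let Q : Finset ℕ :=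
    {L ∈ range (n - 1) | ¬ ((p : ℤ) ∣ (L : ℤ) + 1) ∧ ¬ ((p : ℤ) ∣ (L : ℤ) + (1 - n))}
  have hQB : ∀ L ∈ Q, L ∈ B p n a₁ := fun L hL => by
    obtain ⟨hL, hd, -⟩ := mem_filter.1 hL
    rw [mem_range] at hL
    refine mem_filter.2 ⟨mem_range.2 (by omega), fun h => hd ?_⟩
    rwa [show (L : ℤ) + a₁ - n = L + 1 by simp only [a₁]; push_cast; ring] at h
  let J : (Q → k) →ₗ[k] (B p n a₁ → k) :=
    { toFun := fun v L => if h : L.1 ∈ Q then v ⟨L.1, h⟩ else 0
      map_add' := fun v w => funext fun L => by simp only [Pi.add_apply]; split_ifs <;> simp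
      map_smul' := fun r v => funext fun L => by
        simp only [Pi.smul_apply, RingHom.id_apply]; split_ifs <;> simp }
  have hJ : Function.Injective J := fun v w h => funext fun L => by
    have := congrFun h ⟨L.1, hQB L.1 L.2⟩
    simpa [J, L.2] using this
  have hmap : ∀ f : cocycles₁ (Rep.of ρ₀),
      Φ₁ (((groupCohomology.functor k G 1).map φ).hom (H1π (Rep.of ρ₀) f)) =
        fun L => coeff L.1 (derivative k (f g)) := fun f => by
    have h := H1π_comp_map_apply (A := Rep.of ρ₀) (B := Rep.of ρ₁) (MonoidHom.id G) φ f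
    erw [h, hΦ₁]
    funext L
    show coeff L.1 _ = _
    rw [← hφ (f g)]
    rfl
  have key : LinearMap.range (Φ₁.toLinearMap ∘ₗ ((groupCohomology.functor k G 1).map φ).hom) = LinearMap.range J := by
    refine le_antisymm ?_ ?_
    · rintro _ ⟨x, rfl⟩
      induction x using H1_induction_on with
      | _ f =>
        refine ⟨fun L => coeff L.1 (derivative k (f g)), ?_⟩
        rw [LinearMap.comp_apply, LinearEquiv.coe_coe]
        erw [hmap f]
        funext L
        show (if h : L.1 ∈ Q then _ else (0 : k)) = _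
        split_ifs with h
        · rfl
        · rw [coeff_derivative]
          have hLn : L.1 < n := mem_range.1 (mem_filter.1 L.2).1
          have hker := cocycle_ker (p := p) 0 g hG ρ₀ h0 f
          rcases Nat.lt_or_ge (L.1 + 1) n with hL | hL
          · by_cases hd : (p : ℤ) ∣ (L.1 : ℤ) + (1 - n)
            · rw [coeff_ker hpn hu1 hun 0 hn hker hL (by push_cast; rwa [show (L.1 : ℤ) + 1 + 0 - n = L.1 + (1 - n) by ring]), zero_mul]
            · exfalso
              refine h (mem_filter.2 ⟨mem_range.2 (by omega), fun hd1 => (mem_filter.1 L.2).2 ?_, hd⟩)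
              rwa [show (L.1 : ℤ) + ((n + 1 : ℕ) : ℤ) - n = L.1 + 1 by push_cast; ring]
          · -- the coefficient at `n` vanishes
            obtain ⟨c, hc⟩ := exists_Psi _ (coeff_low hpn hu1 hun 0) (coeff_diag hpn hu1 hun 0 hn) (f g)
            have hzero : c n = 0 := by
              refine (mem_ker_iff hpn hu1 hun 0 hn c).1 ?_ n (by simp)
              rw [hc]; exact hker
            have hLe : L.1 + 1 = n := by omega
            rw [hLe, ← hc, ← coeff_Psi_eq _ (coeff_low hpn hu1 hun 0) c (Nat.lt_succ_self n), map_sum,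
              sum_range_succ, hzero, zero_smul, map_zero, add_zero]
            rw [sum_eq_zero, zero_mul]
            intro j hj
            rw [mem_range] at hj
            rw [map_smul]
            rcases Nat.eq_zero_or_pos j with rfl | hj0
            · have hi : idx p n 0 0 = 0 := idx_unique p n hpn 0 0 0 hp (by simp)
              have he : e p n U 0 0 = 1 := by simp [e, hi, poly]
              rw [he, coeff_one, if_neg hn.ne', smul_zero]
            · rw [coeff_e hpn hu1 hun 0 (by omega : n < j + n), if_neg (by omega : n ≠ j), smul_zero]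
    · rintro _ ⟨v, rfl⟩
      obtain ⟨m, hm, hv, hv0⟩ := exists_ker_coeff hpn hu1 hun 0 hn fun L =>
        if h : 0 < L ∧ L - 1 ∈ Q then v ⟨L - 1, h.2⟩ * ((L : k))⁻¹ else 0
      obtain ⟨f, rfl⟩ := exists_cocycle 0 g hG hg ρ₀ h0 hm
      refine ⟨H1π (Rep.of ρ₀) f, ?_⟩
      rw [LinearMap.comp_apply, LinearEquiv.coe_coe]
      erw [hmap f]
      funext L
      show coeff L.1 _ = (if h : L.1 ∈ Q then _ else (0 : k))
      rw [coeff_derivative]
      have hLn : L.1 < n := mem_range.1 (mem_filter.1 L.2).1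
      rcases Nat.lt_or_ge (L.1 + 1) n with hL | hL
      · by_cases hd : (p : ℤ) ∣ ((L.1 + 1 : ℕ) : ℤ) + 0 - n
        · rw [hv0 _ hL hd, zero_mul, dif_neg]
          intro h
          refine (mem_filter.1 h).2.2 ?_
          rwa [show ((L.1 + 1 : ℕ) : ℤ) + 0 - n = (L.1 : ℤ) + (1 - n) by push_cast; ring] at hd
        · rw [hv (L.1 + 1) (mem_filter.2 ⟨mem_range.2 hL, hd⟩)]
          by_cases hQ : L.1 ∈ Q
          · rw [dif_pos ⟨by omega, by simpa using hQ⟩, dif_pos hQ]
            have hne : ((L.1 + 1 : ℕ) : k) ≠ 0 := fun h => by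
              refine (mem_filter.1 hQ).2.1 ?_
              exact_mod_cast (CharP.cast_eq_zero_iff k p _).1 h
            push_cast at hne ⊢
            rw [mul_assoc, inv_mul_cancel₀ hne, mul_one]
          · rw [dif_neg (fun h => hQ (by simpa using h.2)), dif_neg hQ, zero_mul]
      · rw [dif_neg (fun h => by have := mem_range.1 (mem_filter.1 h).1; omega)]
        -- the coefficient at `n` of a kernel element vanishes
        obtain ⟨c, hc⟩ := exists_Psi _ (coeff_low hpn hu1 hun 0) (coeff_diag hpn hu1 hun 0 hn) (f g)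
        have hzero : c n = 0 := by
          refine (mem_ker_iff hpn hu1 hun 0 hn c).1 ?_ n (by simp)
          rw [hc]; exact hm
        have hLe : L.1 + 1 = n := by omega
        rw [hLe, ← hc, ← coeff_Psi_eq _ (coeff_low hpn hu1 hun 0) c (Nat.lt_succ_self n), map_sum,
          sum_range_succ, hzero, zero_smul, map_zero, add_zero]
        rw [sum_eq_zero, zero_mul]
        intro j hj
        rw [mem_range] at hj
        rw [map_smul]
        rcases Nat.eq_zero_or_pos j with rfl | hj0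
        · have hi : idx p n 0 0 = 0 := idx_unique p n hpn 0 0 0 hp (by simp)
          have he : e p n U 0 0 = 1 := by simp [e, hi, poly]
          rw [he, coeff_one, if_neg hn.ne', smul_zero]
        · rw [coeff_e hpn hu1 hun 0 (by omega : n < j + n), if_neg (by omega : n ≠ j), smul_zero]
  let e₁ := ((groupCohomology.functor k G 1).map φ).hom
  have E : LinearMap.range e₁ ≃ₗ[k] (Q → k) :=
    (Φ₁.submoduleMap (LinearMap.range e₁)) ≪≫ₗ LinearEquiv.ofEq _ _ (by rw [← LinearMap.range_comp]; exact key) ≪≫ₗ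
      (LinearEquiv.ofInjective J hJ).symm
  refine ⟨Module.Finite.equiv E.symm, ?_⟩
  rw [E.finrank_eq, Module.finrank_fintype_fun_eq_card, Fintype.card_coe]
  let q : ℤ := (n - 1 : ℤ) / p
  have hA : (({L ∈ range (n - 1) | (p : ℤ) ∣ ((L : ℕ) : ℤ) + 1} : Finset ℕ).card : ℤ) = q := by
    rw [card_dvd hp 1 (n - 1)]
    simp [q, Nat.cast_sub hn]
  have hneg : ∀ x : ℤ, ¬ (p : ℤ) ∣ x → (-x) / (p : ℤ) = -(x / p) - 1 := fun x hx => by
    rw [Int.neg_ediv, if_neg hx, Int.sign_natCast_of_ne_zero hp.ne']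
  have hpn' : ¬ (p : ℤ) ∣ (n : ℤ) := fun h => hpn (Int.natCast_dvd_natCast.1 h)
  have hnq : (n : ℤ) / p = q := by
    have h := ediv_succ hp ((n : ℤ) - 1)
    rw [show (n : ℤ) - 1 + 1 = n by ring, if_neg hpn', add_zero] at h
    exact h
  have hB : (({L ∈ range (n - 1) | (p : ℤ) ∣ ((L : ℕ) : ℤ) + (1 - n)} : Finset ℕ).card : ℤ) = q := by
    rw [card_dvd hp (1 - n) (n - 1)]
    rw [show (1 - (n : ℤ)) + ((n - 1 : ℕ) : ℤ) - 1 = -1 by rw [Nat.cast_sub hn]; push_cast; ring,
      show (1 : ℤ) - n - 1 = -(n : ℤ) by ring, hneg _ hpn', hnq,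
      hneg 1 (fun h => by have := Int.le_of_dvd one_pos h; have := (Fact.out : p.Prime).two_le; omega),
      Int.ediv_eq_zero_of_lt (by norm_num) (by exact_mod_cast (Fact.out : p.Prime).one_lt)]
    ring
  have hQ : (Q.card : ℤ) = ((n : ℤ) - 1) - q - q := by
    have h := card_filter_add_card_filter_not (s := range (n - 1))
      (fun L : ℕ => (p : ℤ) ∣ (L : ℤ) + 1 ∨ (p : ℤ) ∣ (L : ℤ) + (1 - n))
    rw [card_range, filter_or, card_union_of_disjoint] at h
    · have hQe : Q = ({L ∈ range (n - 1) | ¬ ((p : ℤ) ∣ ((L : ℕ) : ℤ) + 1 ∨ (p : ℤ) ∣ (L : ℤ) + (1 - n))} : Finset ℕ) :=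
        filter_congr fun L _ => by rw [not_or]
      rw [← hQe] at h
      have : ((n - 1 : ℕ) : ℤ) = (n : ℤ) - 1 := by omega
      omega
    · refine disjoint_filter.2 fun L _ h1 h2 => hpn' ?_
      have := dvd_sub h1 h2
      rwa [show (L : ℤ) + 1 - (L + (1 - n)) = n by ring] at this
  rw [hQ]
  have hr : ((n + 1) * (p - 1) : ℤ) / p = (n : ℤ) - q := by
    rw [show ((n : ℤ) + 1) * (p - 1) = -((n : ℤ) + 1) + (n + 1) * p by ring,
      Int.add_mul_ediv_right _ _ (by exact_mod_cast hp.ne')]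
    have h := ediv_succ hp (n : ℤ)
    rw [hnq] at h
    by_cases hd : (p : ℤ) ∣ (n : ℤ) + 1
    · rw [Int.neg_ediv_of_dvd hd, h, if_pos hd]; ring
    · rw [hneg _ hd, h, if_neg hd]; ring
  rw [hr]
  ring

end

end GrothLib.ASH28
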