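import Mathlib

/-!
# An automorphism of order `p` of `k[[t]]` and a triangular basis adapted to it

For `u` with constant term one and `u ^ n * (1 + t ^ n) = 1` the substitution `t ↦ t u` moves `t ^ (-n)` by one.
The operator `h ↦ u ^ a * h (t u) - h` shifts a triangular family `e` by `n`, killing part of it.
-/

noncomputable section

namespace GrothLib.ASH28

open PowerSeries Finset

variable {k : Type*} [Field k]

variable (p n : ℕ) (U : k⟦X⟧ˣ)

/-- The substitution `t ↦ t u`. -/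
def sig : k⟦X⟧ →+* k⟦X⟧ :=
  (substAlgHom (R := k) (HasSubst.of_constantCoeff_zero' (a := X * (U : k⟦X⟧)) (by simp))).toRingHom

theorem sig_apply (h : k⟦X⟧) : sig U h = subst (X * (U : k⟦X⟧)) h := by
  rw [sig]; exact congrFun (coe_substAlgHom _) h

theorem sig_X : sig U X = X * (U : k⟦X⟧) := by
  rw [sig_apply, subst_X (HasSubst.of_constantCoeff_zero' (by simp))]

theorem sig_C (c : k) : sig U (C c) = C c :=
  (substAlgHom (R := k) (HasSubst.of_constantCoeff_zero' (a := X * (U : k⟦X⟧)) (by simp))).commutes c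

theorem sig_dvd {N : ℕ} {h : k⟦X⟧} (hd : X ^ N ∣ h) : X ^ N ∣ sig U h := by
  obtain ⟨q, rfl⟩ := hd
  rw [map_mul, map_pow, sig_X, mul_pow, mul_assoc]
  exact dvd_mul_right _ _

theorem constantCoeff_sig (h : k⟦X⟧) : constantCoeff (sig U h) = constantCoeff h := by
  have h1 : X ^ 1 ∣ h - C (constantCoeff h) := by
    rw [pow_one, X_dvd_iff]; simp
  have h2 := sig_dvd U h1
  rw [pow_one, X_dvd_iff, map_sub (sig U), sig_C] at h2
  simpa [sub_eq_zero] using h2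

/-- The substitution on units. -/
def sigU : k⟦X⟧ˣ →* k⟦X⟧ˣ := Units.map (sig U).toMonoidHom

theorem val_sigU (v : k⟦X⟧ˣ) : ((sigU U v : k⟦X⟧ˣ) : k⟦X⟧) = sig U v := rfl

/-- The products `u * σ u * ⋯`, with `σ^s t = t * us s`. -/
def us : ℕ → k⟦X⟧ˣ
  | 0 => 1
  | s + 1 => U * sigU U (us s)

/-- The invariant uniformiser divided by `t ^ p`. -/
def Wn : k⟦X⟧ˣ := ∏ s ∈ range p, us U s

variable (hu1 : constantCoeff (U : k⟦X⟧) = 1) (hun : (U : k⟦X⟧) ^ n * (1 + X ^ n) = 1)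

theorem eq_one_of_pow (hn : (n : k) ≠ 0) {v : k⟦X⟧} (hv1 : constantCoeff v = 1) (hv : v ^ n = 1) : v = 1 := by
  have hg := geom_sum_mul v n
  rw [hv, sub_self, mul_eq_zero] at hg
  rcases hg with h | h
  · exfalso
    apply hn
    have := congrArg constantCoeff h
    simpa [hv1] using this
  · exact sub_eq_zero.1 h

include hu1 in
theorem us_spec (hun : (U : k⟦X⟧) ^ n * (1 + X ^ n) = 1) (s : ℕ) :
    constantCoeff (us U s : k⟦X⟧) = 1 ∧ (us U s : k⟦X⟧) ^ n * (1 + (s : k⟦X⟧) * X ^ n) = 1 := by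
  induction s with
  | zero => simp [us]
  | succ s ih =>
    refine ⟨?_, ?_⟩
    · simp [us, val_sigU, constantCoeff_sig, ih.1, hu1]
    · have h := congrArg (sig U) ih.2
      simp only [map_mul, map_pow, map_add, map_one, map_natCast, sig_X, mul_pow] at h
      show ((U * sigU U (us U s) : k⟦X⟧ˣ) : k⟦X⟧) ^ n * _ = 1
      rw [Units.val_mul, val_sigU, mul_pow]
      push_cast
      linear_combination h + (sig U (us U s : k⟦X⟧)) ^ n * hun

include hu1 hun in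
theorem us_p [CharP k p] (hn : (n : k) ≠ 0) : us U p = 1 := by
  obtain ⟨h1, h2⟩ := us_spec n U hu1 hun p
  have hp : (p : k⟦X⟧) = 0 := by
    rw [← map_natCast (C (R := k)), CharP.cast_eq_zero, map_zero]
  rw [hp, zero_mul, add_zero, mul_one] at h2
  exact Units.ext (eq_one_of_pow n hn h1 h2)

include hu1 hun in
/-- `t ^ p * W` is invariant. -/
theorem sigU_Wn [CharP k p] (hn : (n : k) ≠ 0) : sigU U (Wn p U) * U ^ p = Wn p U := by
  have h : sigU U (Wn p U) * U ^ p = ∏ s ∈ range p, us U (s + 1) := by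
    rw [Wn, map_prod]
    simp only [us]
    rw [prod_mul_distrib, prod_const, card_range, mul_comm]
  rw [h, Wn]
  have h2 := prod_range_succ' (us U) p
  rw [prod_range_succ, us_p p n U hu1 hun hn, show us U 0 = 1 from rfl, mul_one, mul_one] at h2
  exact h2.symm

theorem X_pow_dvd_sub_one (hn : (n : k) ≠ 0) {v c : k⟦X⟧} (hv1 : constantCoeff v = 1)
    (hv : v ^ n * (1 + c * X ^ n) = 1) : X ^ n ∣ v - 1 := by
  have hd : X ^ n ∣ (∑ i ∈ range n, v ^ i) * (v - 1) := by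
    rw [geom_sum_mul]
    exact ⟨-(v ^ n * c), by linear_combination hv⟩
  have hu : IsUnit (∑ i ∈ range n, v ^ i) := by
    rw [isUnit_iff_constantCoeff]
    simpa [hv1] using hn
  exact hu.dvd_mul_left.1 hd

/-- The units congruent to one modulo `t ^ n`. -/
def cong : Subgroup k⟦X⟧ˣ where
  carrier := {v | X ^ n ∣ (v : k⟦X⟧) - 1}
  one_mem' := by simp
  mul_mem' {v w} hv hw := by
    show X ^ n ∣ ((v * w : k⟦X⟧ˣ) : k⟦X⟧) - 1
    rw [Units.val_mul, show (v : k⟦X⟧) * w - 1 = v * ((w : k⟦X⟧) - 1) + ((v : k⟦X⟧) - 1) by ring]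
    exact dvd_add (hw.mul_left _) hv
  inv_mem' {v} hv := by
    show X ^ n ∣ ((v⁻¹ : k⟦X⟧ˣ) : k⟦X⟧) - 1
    have : ((v⁻¹ : k⟦X⟧ˣ) : k⟦X⟧) - 1 = -((v⁻¹ : k⟦X⟧ˣ) : k⟦X⟧) * ((v : k⟦X⟧) - 1) := by
      rw [neg_mul, mul_sub, Units.inv_mul, mul_one]; ring
    rw [this]
    exact hv.mul_left _

include hu1 hun in
theorem Wn_mem (hn : (n : k) ≠ 0) : Wn p U ∈ cong n :=
  Subgroup.prod_mem _ fun s _ => X_pow_dvd_sub_one n hn (us_spec n U hu1 hun s).1 (us_spec n U hu1 hun s).2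

/-- The product giving a binomial coefficient of `t ^ (-n)`, made a power series. -/
def poly (i : ℕ) : k⟦X⟧ := C ((i.factorial : k)⁻¹) * ∏ r ∈ range i, (1 - (r : k⟦X⟧) * X ^ n)

theorem sub_poly (j : ℕ) (hj : ((j + 1 : ℕ) : k) ≠ 0) :
    C (((j + 1).factorial : k)⁻¹) * (∏ r ∈ range (j + 1), (1 - ((r : k⟦X⟧) - 1) * X ^ n)) - poly n (j + 1) =
      X ^ n * poly (k := k) n j := by
  have e : C (((j + 1).factorial : k)⁻¹) * ((j : k⟦X⟧) + 1) = C ((j.factorial : k)⁻¹) := by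
    rw [show ((j : k⟦X⟧) + 1) = C ((j + 1 : ℕ) : k) by rw [map_natCast]; push_cast; ring, ← map_mul,
      Nat.factorial_succ, Nat.cast_mul, mul_inv, mul_comm, ← mul_assoc, mul_inv_cancel₀ hj, one_mul]
  rw [poly, poly, prod_range_succ', prod_range_succ, ← e]
  push_cast
  simp only [add_sub_cancel_right]
  ring

theorem poly_dvd_sub (i : ℕ) : X ^ n ∣ poly n i - C ((i.factorial : k)⁻¹) := by
  induction i with
  | zero => simp [poly]
  | succ i _ =>
    rw [poly, ← mul_sub_one]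
    refine Dvd.dvd.mul_left ?_ _
    induction (i + 1) with
    | zero => simp
    | succ m ih =>
      rw [prod_range_succ, mul_sub, mul_one]
      rw [sub_right_comm]
      exact dvd_sub ih ((dvd_mul_left _ _).mul_left _)

/-- The index `i < p` with `p ∣ l + a + n i`. -/
def idx (a : ℤ) (l : ℕ) : ℕ := (-(((l : ℤ) + a : ℤ) : ZMod p) * (n : ZMod p)⁻¹).val

/-- The triangular family. -/
def e (a : ℤ) (l : ℕ) : k⟦X⟧ :=
  X ^ l * (((Wn p U) ^ (((l : ℤ) + a + n * (idx p n a l : ℕ)) / p) : k⟦X⟧ˣ) : k⟦X⟧) * poly n (idx p n a l)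

theorem e_spec [Fact p.Prime] (hpn : ¬ p ∣ n) (a : ℤ) (l : ℕ) :
    idx p n a l < p ∧ ((p : ℤ) ∣ (l : ℤ) + a + n * (idx p n a l : ℕ)) := by
  refine ⟨ZMod.val_lt _, (ZMod.intCast_zmod_eq_zero_iff_dvd _ p).1 ?_⟩
  have h : (n : ZMod p) ≠ 0 := fun h => hpn ((ZMod.natCast_eq_zero_iff n p).1 h)
  push_cast
  rw [idx, ZMod.natCast_val, ZMod.cast_id, mul_left_comm, mul_inv_cancel₀ h, mul_one]
  push_cast
  ring

theorem idx_unique [Fact p.Prime] (hpn : ¬ p ∣ n) (a : ℤ) (l i : ℕ) (hi : i < p)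
    (h : (p : ℤ) ∣ (l : ℤ) + a + n * i) : idx p n a l = i := by
  obtain ⟨h1, h2⟩ := e_spec p n hpn a l
  have h3 := (Nat.prime_iff_prime_int.1 (Fact.out : p.Prime)).dvd_or_dvd
    (show (p : ℤ) ∣ (n : ℤ) * (((idx p n a l : ℕ) : ℤ) - i) by
      have := dvd_sub h2 h
      ring_nf at this ⊢
      exact this)
  rcases h3 with h3 | h3
  · exact absurd (Int.natCast_dvd_natCast.1 h3) hpn
  · have h4 := Int.eq_zero_of_abs_lt_dvd h3 (abs_lt.2 ⟨by omega, by omega⟩)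
    omega

theorem e_dvd_sub [Fact p.Prime] [CharP k p] (hu1 : constantCoeff (U : k⟦X⟧) = 1)
    (hun : (U : k⟦X⟧) ^ n * (1 + X ^ n) = 1) (hn : (n : k) ≠ 0) (a : ℤ) (l : ℕ) :
    X ^ (l + n) ∣ e p n U a l - X ^ l * C (((idx p n a l).factorial : k)⁻¹) := by
  rw [e, mul_assoc, ← mul_sub, pow_add]
  refine mul_dvd_mul_left _ ?_
  generalize hP : (Wn p U) ^ (((l : ℤ) + a + n * (idx p n a l : ℕ)) / p) = P
  have hPm : X ^ n ∣ (P : k⟦X⟧) - 1 := hP ▸ Subgroup.zpow_mem (cong n) (Wn_mem p n U hu1 hun hn) _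
  rw [show (P : k⟦X⟧) * poly n (idx p n a l) - C (((idx p n a l).factorial : k)⁻¹) =
    ((P : k⟦X⟧) - 1) * poly n (idx p n a l) + (poly n (idx p n a l) - C (((idx p n a l).factorial : k)⁻¹)) by ring]
  exact dvd_add (hPm.mul_right _) (poly_dvd_sub n _)

include hu1 hun in
/-- The operator shifts the family by `n`. -/
theorem D_e [Fact p.Prime] [CharP k p] (hpn : ¬ p ∣ n) (a : ℤ) (l : ℕ) :
    ((U ^ a : k⟦X⟧ˣ) : k⟦X⟧) * sig U (e p n U a l) - e p n U a l =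
      if idx p n a l = 0 then 0 else e p n U a (l + n) := by
  have hn : (n : k) ≠ 0 := fun h => hpn ((CharP.cast_eq_zero_iff k p n).1 h)
  obtain ⟨hi, hd⟩ := e_spec p n hpn a l
  generalize hI : idx p n a l = i at hi hd
  obtain ⟨m, hm⟩ := hd
  have hdiv : ((l : ℤ) + a + n * i) / p = m := by
    rw [hm]
    exact Int.mul_ediv_cancel_left _ (by exact_mod_cast (Fact.out : p.Prime).ne_zero)
  let Q : k⟦X⟧ˣ := (U ^ n)⁻¹
  have hQ : (Q : k⟦X⟧) = 1 + X ^ n := by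
    show (((U ^ n)⁻¹ : k⟦X⟧ˣ) : k⟦X⟧) = _
    rw [Units.inv_eq_of_mul_eq_one_right]
    rw [Units.val_pow_eq_pow_val]
    exact hun
  have hsW : sigU U (Wn p U ^ m) = Wn p U ^ m * (U ^ ((p : ℤ) * m))⁻¹ := by
    rw [map_zpow, zpow_mul, zpow_natCast, ← inv_zpow, ← mul_zpow]
    congr 1
    exact eq_mul_inv_of_mul_eq (sigU_Wn p n U hu1 hun hn)
  have hunit : U ^ a * (U ^ l * sigU U (Wn p U ^ m)) = Wn p U ^ m * Q ^ i := by
    have h : U ^ a * U ^ l * (U ^ ((p : ℤ) * m))⁻¹ = Q ^ i := by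
      show _ = ((U ^ n)⁻¹) ^ i
      rw [inv_pow, ← pow_mul, ← zpow_natCast U l, ← zpow_natCast U (n * i), ← zpow_neg, ← zpow_neg,
        ← zpow_add, ← zpow_add]
      congr 1
      push_cast
      omega
    rw [hsW, ← h]
    ac_rfl
  have hfac : ∀ r : ℕ, (1 + X ^ n) * sig U (1 - (r : k⟦X⟧) * X ^ n) = 1 - ((r : k⟦X⟧) - 1) * X ^ n := fun r => by
    simp only [map_sub, map_one, map_mul, map_natCast, map_pow, sig_X, mul_pow]
    linear_combination (-(r : k⟦X⟧) * X ^ n) * hun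
  have hρ : ((U ^ a : k⟦X⟧ˣ) : k⟦X⟧) * sig U (e p n U a l) =
      X ^ l * ((Wn p U ^ m : k⟦X⟧ˣ) : k⟦X⟧) *
        (C ((i.factorial : k)⁻¹) * ∏ r ∈ range i, (1 - ((r : k⟦X⟧) - 1) * X ^ n)) := by
    rw [e, hI, hdiv, map_mul, map_mul, map_pow, sig_X, mul_pow, ← val_sigU, poly, map_mul (sig U), sig_C,
      map_prod]
    have h2 := congrArg (fun v : k⟦X⟧ˣ => (v : k⟦X⟧)) hunit
    simp only [Units.val_mul, Units.val_pow_eq_pow_val, hQ] at h2
    rw [← prod_congr rfl fun r _ => hfac r, prod_mul_distrib, prod_const, card_range]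
    linear_combination (X ^ l * C ((i.factorial : k)⁻¹) *
      ∏ r ∈ range i, sig U (1 - (r : k⟦X⟧) * X ^ n)) * h2
  rw [hρ, e, hI, hdiv, ← mul_sub]
  split_ifs with h0
  · subst h0; simp [poly]
  · obtain ⟨j, rfl⟩ : ∃ j, i = j + 1 := ⟨i - 1, by omega⟩
    have hj : ((j + 1 : ℕ) : k) ≠ 0 := fun h => by
      have := Nat.le_of_dvd (by omega) ((CharP.cast_eq_zero_iff k p _).1 h)
      omega
    rw [sub_poly n j hj, e, idx_unique p n hpn a (l + n) j (by omega) ⟨m, by push_cast at hm ⊢; linarith⟩]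
    rw [show (((l + n : ℕ) : ℤ) + a + n * (j : ℕ)) / p = m by
      rw [← hdiv]; congr 1; push_cast; ring, pow_add]
    ring

end GrothLib.ASH28
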